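import Groth.Agent.Borel50.Density
import Groth.Agent.Borel50.Lin.SolvCent

/-!
# Closed subgroups containing a power of every element, in characteristic zero
-/

set_option autoImplicit false
universe u v

open MvPolynomial

noncomputable section

namespace Groth.Agent.DenseFG

open Groth.Agent.Borel50.Lin

variable {k : Type u} [Field k] {N : ℕ} {Γ : Type v} [Group Γ] [TopologicalSpace Γ] (Φ : Rep k Γ N)

include Φ in
/-- A group, some of whose finitely generated subgroups has maximal connected closed subgroup in its closure: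
every element has a power in it. -/
theorem exists_fg_power :
    ∃ (F : Finset Γ) (H : Subgroup Γ), IsClosed (H : Set Γ) ∧
      (H : Set Γ) ⊆ closure (Subgroup.closure (F : Set Γ) : Set Γ) ∧
      ∀ x : Γ, ∃ m : ℕ, 0 < m ∧ x ^ m ∈ H := by
  classical
  let good : Finset Γ → Subgroup Γ → Prop := fun F H => IsClosed (H : Set Γ) ∧
    _root_.IsPreconnected (H : Set Γ) ∧ (H : Set Γ) ⊆ closure (Subgroup.closure (F : Set Γ) : Set Γ)
  have hex : ∃ n : ℕ, ∃ F H, good F H ∧ (Φ.vanishing (H : Set Γ)).height = n := by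
    have h1 : good ∅ (⊥ : Subgroup Γ) := by
      refine ⟨?_, ?_, ?_⟩
      · simpa using Φ.isClosed_singleton 1
      · simpa using isPreconnected_singleton
      · intro x hx
        rw [SetLike.mem_coe, Subgroup.mem_bot] at hx
        exact subset_closure (hx ▸ one_mem _)
    have := Φ.isPrime_vanishing (Φ.isIrreducible_of_preconnected h1.1 h1.2.1)
    obtain ⟨n, hn⟩ := ENat.ne_top_iff_exists.1
      (Ideal.height_ne_top_of_isPrime (I := Φ.vanishing ((⊥ : Subgroup Γ) : Set Γ)))
    exact ⟨n, ∅, ⊥, h1, hn.symm⟩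
  obtain ⟨F, H, ⟨hHc, hHp, hHF⟩, hn⟩ := Nat.find_spec hex
  refine ⟨F, H, hHc, hHF, fun x => ?_⟩
  obtain ⟨K, hK⟩ := Φ.exists_closure_subgroup (Subgroup.closure ((insert x F : Finset Γ) : Set Γ))
  have hKc : IsClosed (K : Set Γ) := hK ▸ isClosed_closure
  have hHK : H ≤ K := fun y hy => by
    rw [← SetLike.mem_coe, hK]
    exact closure_mono (Subgroup.closure_mono (by simp)) (hHF hy)
  have hxK : x ∈ K := by
    rw [← SetLike.mem_coe, hK]
    exact subset_closure (Subgroup.subset_closure (by simp))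
  let ΦK := Φ.restrict K hKc
  let K0 := ΦK.identityComponent
  have := ΦK.finiteIndex_identityComponent
  have := ΦK.normal_identityComponent
  let H' : Subgroup Γ := K0.map K.subtype
  have hH' : good (insert x F) H' := by
    refine ⟨?_, ?_, ?_⟩
    · rw [show (H' : Set Γ) = Subtype.val '' (K0 : Set K) from rfl]
      exact hKc.isClosedMap_subtype_val _ ΦK.isClosed_identityComponent
    · rw [show (H' : Set Γ) = Subtype.val '' (K0 : Set K) from rfl]
      exact isPreconnected_connectedComponent.image _ continuous_subtype_val.continuousOn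
    · rintro _ ⟨y, -, rfl⟩
      rw [← hK]
      exact y.2
  have hle : H ≤ H' := fun y hy => by
    refine ⟨⟨y, hHK hy⟩, ?_, rfl⟩
    have h1 : _root_.IsPreconnected ((H.subgroupOf K : Subgroup K) : Set K) := by
      refine Topology.IsInducing.subtypeVal.isPreconnected_image.1 ?_
      convert hHp using 1
      ext z
      exact ⟨by rintro ⟨w, hw, rfl⟩; exact hw, fun hz => ⟨⟨z, hHK hz⟩, hz, rfl⟩⟩
    exact h1.subset_connectedComponent (x := (1 : K)) (H.subgroupOf K).one_mem (show (⟨y, hHK hy⟩ : K) ∈ H.subgroupOf K from hy)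
  have heq : H' = H := by
    by_contra hne
    have := Φ.isPrime_vanishing (Φ.isIrreducible_of_preconnected hHc hHp)
    have := Φ.isPrime_vanishing (Φ.isIrreducible_of_preconnected hH'.1 hH'.2.1)
    have hlt : Φ.vanishing (H' : Set Γ) < Φ.vanishing (H : Set Γ) := by
      refine lt_of_le_of_ne (fun f hf => Φ.mem_vanishing.2 fun y hy => Φ.mem_vanishing.1 hf y (hle hy)) fun e => ?_
      refine hne (le_antisymm (fun y hy => ?_) hle)
      rw [← SetLike.mem_coe, ← hHc.closure_eq]
      exact Φ.mem_closure fun f hf => Φ.mem_vanishing.1 (e ▸ Φ.mem_vanishing.2 hf) y hy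
    have hh := Ideal.height_strict_mono_of_isPrime hlt
    obtain ⟨n', hn'⟩ := ENat.ne_top_iff_exists.1 (Ideal.height_ne_top_of_isPrime (I := Φ.vanishing (H' : Set Γ)))
    rw [← hn', hn, ENat.coe_lt_coe] at hh
    exact Nat.find_min hex hh ⟨_, H', hH', hn'.symm⟩
  refine ⟨K0.index, Nat.pos_of_ne_zero Subgroup.FiniteIndex.index_ne_zero, ?_⟩
  rw [← heq]
  exact ⟨(⟨x, hxK⟩ : K) ^ K0.index, Subgroup.pow_index_mem K0 _, rfl⟩

variable [CharZero k]

/-- A subgroup closed under extraction of roots contains a connected group. -/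
theorem le_of_unipotent_pow (hup : ∀ x, Φ.ρ x ∈ fil k N 0) (H : Subgroup Γ) (hH : IsClosed (H : Set Γ))
    {u : Γ} (hu : u ∈ Φ.unipotent hup 1) {m : ℕ} (hm : 0 < m) (hum : u ^ m ∈ H) : u ∈ H := by
  classical
  obtain ⟨C, hC⟩ := Φ.exists_closure_subgroup (Subgroup.zpowers u)
  have hCc : IsClosed (C : Set Γ) := hC ▸ isClosed_closure
  have huC : u ∈ C := by rw [← SetLike.mem_coe, hC]; exact subset_closure (Subgroup.mem_zpowers u)
  let ΦC := Φ.restrict C hCc
  let D : Subgroup C := H.subgroupOf C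
  have hDc : IsClosed (D : Set C) := hH.preimage continuous_subtype_val
  have hcov : (C : Set Γ) ⊆ ⋃ i : Fin m, (fun y => (u ^ (i : ℕ))⁻¹ * y) ⁻¹' (H : Set Γ) := by
    rw [hC]
    refine closure_minimal ?_ (isClosed_iUnion_of_finite fun i => hH.preimage (Φ.good.left _))
    rintro _ ⟨j, rfl⟩
    refine Set.mem_iUnion.2 ⟨⟨(j % m).toNat, ?_⟩, ?_⟩
    · have := Int.emod_lt_of_pos j (Int.natCast_pos.2 hm); omega
    · show (u ^ (j % m).toNat)⁻¹ * u ^ j ∈ H
      have h0 : ((j % m).toNat : ℤ) = j % m := Int.toNat_of_nonneg (Int.emod_nonneg _ (by omega))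
      rw [← zpow_natCast, h0, ← zpow_neg, ← zpow_add,
        show -(j % (m : ℤ)) + j = (m : ℤ) * (j / m) by rw [neg_add_eq_sub, Int.emod_def]; ring,
        zpow_mul, zpow_natCast]
      exact H.zpow_mem hum _
  have hsurj : Function.Surjective fun i : Fin m => (((⟨u, huC⟩ : C) ^ (i : ℕ) : C) : C ⧸ D) := by
    intro q
    obtain ⟨y, rfl⟩ := QuotientGroup.mk_surjective q
    obtain ⟨i, hi⟩ := Set.mem_iUnion.1 (hcov y.2)
    exact ⟨i, QuotientGroup.eq.2 hi⟩
  have : Finite (C ⧸ D) := Finite.of_surjective _ hsurj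
  have : D.FiniteIndex := Subgroup.finiteIndex_of_finite_quotient
  have : PreconnectedSpace ΦC.identityComponent := ΦC.preconnectedSpace_identityComponent
  have htop := (ΦC.restrict _ ΦC.isClosed_identityComponent).eq_top_of_finiteIndex
    (D.subgroupOf ΦC.identityComponent) (hDc.preimage continuous_subtype_val)
  have hu0 : (⟨u, huC⟩ : C) ∈ ΦC.identityComponent :=
    ΦC.mem_identityComponent_of_unipotent (fun y => hup y) hu
  have h := htop.symm ▸ Subgroup.mem_top (⟨⟨u, huC⟩, hu0⟩ : ΦC.identityComponent)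
  exact h

variable [IsAlgClosed k]

/-- A connected diagonal group has no proper closed subgroup with torsion quotient. -/
theorem eq_top_of_diag [PreconnectedSpace Γ] (hd : ∀ x, (Φ.ρ x).IsDiag) (D : Subgroup Γ)
    (hD : IsClosed (D : Set Γ)) (hpow : ∀ x, ∃ m : ℕ, 0 < m ∧ x ^ m ∈ D) : D = ⊤ := by
  classical
  have hup : ∀ x, Φ.ρ x ∈ fil k N 0 := fun x i j hij => by
    refine hd x ?_
    intro h; subst h; omega
  have hinj : Function.Injective (Φ.diagHom hup) := fun x y h => Φ.inj (by
    rw [← (hd x).diagonal_diag, ← (hd y).diagonal_diag]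
    exact congrArg Matrix.diagonal h)
  let ΦD := Φ.restrict D hD
  let D0 := ΦD.identityComponent
  have := ΦD.finiteIndex_identityComponent
  have := ΦD.normal_identityComponent
  have : PreconnectedSpace D0 := ΦD.preconnectedSpace_identityComponent
  let Φ0 := ΦD.restrict D0 ΦD.isClosed_identityComponent
  obtain ⟨L, hsat, hL, himage⟩ := exists_lattice Φ hup
  obtain ⟨L', -, hL', himage'⟩ := exists_lattice Φ0 (fun z => hup _)
  have hle : L' ≤ L := by
    intro l hl
    by_contra hnot
    -- a functional killing `L` but not `l`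
    have : IsAddTorsionFree ((Fin N → ℤ) ⧸ L) := by
      refine ⟨fun n hn a b hab => ?_⟩
      obtain ⟨a, rfl⟩ := L.mkQ_surjective a
      obtain ⟨b, rfl⟩ := L.mkQ_surjective b
      simp only [Submodule.mkQ_apply] at hab ⊢
      rw [Submodule.Quotient.eq]
      refine hsat (n : ℤ) _ (by exact_mod_cast hn) ?_
      rw [smul_sub]
      refine (Submodule.Quotient.eq L).1 ?_
      rw [Submodule.Quotient.mk_smul, Submodule.Quotient.mk_smul, natCast_zsmul, natCast_zsmul]
      exact hab
    have : Module.IsTorsionFree ℤ ((Fin N → ℤ) ⧸ L) := inferInstance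
    have : Module.Free ℤ ((Fin N → ℤ) ⧸ L) := Module.free_of_finite_type_torsion_free'
    let b := Module.Free.chooseBasis ℤ ((Fin N → ℤ) ⧸ L)
    obtain ⟨i₀, hi₀⟩ : ∃ i, b.repr (L.mkQ l) i ≠ 0 := by
      by_contra hall
      push Not at hall
      exact hnot ((Submodule.Quotient.mk_eq_zero L).1 (b.repr.injective (by ext i; simpa using hall i)))
    let φ : (Fin N → ℤ) →ₗ[ℤ] ℤ := (b.coord i₀).comp L.mkQ
    let two : kˣ := Units.mk0 (2 : k) two_ne_zero
    let δ : Fin N → kˣ := fun i => two ^ φ (Pi.single i 1)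
    have hδ : ∀ w : Fin N → ℤ, ∏ i, δ i ^ w i = two ^ φ w := fun w => by
      have e : φ w = ∑ i, φ (Pi.single i 1) * w i := by
        conv_lhs => rw [show w = ∑ i, w i • Pi.single i (1 : ℤ) from by
          ext j; simp [Finset.sum_apply, Pi.single_apply]]
        rw [map_sum]
        exact Finset.sum_congr rfl fun i _ => by rw [map_smul, smul_eq_mul, mul_comm]
      simp only [δ, ← zpow_mul]
      rw [prod_zpow_eq, e]
    obtain ⟨y, hy⟩ := himage δ fun w hw => by
      rw [hδ, show φ w = 0 by simp [φ, (Submodule.Quotient.mk_eq_zero L).2 hw], zpow_zero]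
    obtain ⟨m, hm, hym⟩ := hpow y
    have h1 := (hL' l).1 hl ⟨_, Subgroup.pow_index_mem D0 ⟨y ^ m, hym⟩⟩
    have e1 : ∀ i, Φ0.diagHom (fun z => hup _) ⟨_, Subgroup.pow_index_mem D0 ⟨y ^ m, hym⟩⟩ i =
        ((δ i ^ (m * D0.index) : kˣ) : k) := fun i => by
      show Φ.diagHom hup ((y ^ m) ^ D0.index) i = _
      rw [← pow_mul, map_pow, Pi.pow_apply, hy i, Units.val_pow_eq_pow_val]
    have h2 : (two : kˣ) ^ (φ l * ((m * D0.index : ℕ) : ℤ)) = 1 := by
      rw [zpow_mul, ← hδ, zpow_natCast, ← Finset.prod_pow]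
      refine Units.ext ?_
      rw [Units.coe_prod, Units.val_one, ← h1]
      refine Finset.prod_congr rfl fun i _ => ?_
      rw [e1, ← Units.val_zpow_eq_zpow_val]
      congr 1
      simp only [δ]
      simp only [← zpow_natCast, ← zpow_mul]
      congr 1
      ring
    have h3 : ∀ j : ℤ, (two : kˣ) ^ j = 1 → j = 0 := fun j hj => by
      by_contra hj0
      have hpow2 : (two : kˣ) ^ j.natAbs = 1 := pow_natAbs_eq_one.2 hj
      have h4 : ((2 ^ j.natAbs : ℕ) : k) = ((1 : ℕ) : k) := by
        have := congrArg Units.val hpow2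
        simpa [two] using this
      have := Nat.cast_injective h4
      have := Int.natAbs_pos.2 hj0
      have := Nat.one_lt_pow this.ne' one_lt_two
      omega
    have h5 := h3 _ h2
    have h6 : φ l ≠ 0 := hi₀
    have h7 : 0 < m * D0.index := Nat.mul_pos hm (Nat.pos_of_ne_zero Subgroup.FiniteIndex.index_ne_zero)
    rcases mul_eq_zero.1 h5 with h | h
    · exact h6 h
    · omega
  refine eq_top_iff.2 fun x _ => ?_
  let δ : Fin N → kˣ := fun i => ((Pi.evalMonoidHom (fun _ => k) i).comp (Φ.diagHom hup)).toHomUnits x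
  obtain ⟨z, hz⟩ := himage' δ fun w hw => Units.ext (by
    simp only [Units.coe_prod, Units.val_zpow_eq_zpow_val, Units.val_one]
    exact (hL w).1 (hle hw) x)
  have hzx : ((z : D) : Γ) = x := hinj (funext hz)
  exact hzx ▸ (z : D).2

include Φ in
/-- A closed subgroup containing a power of every element contains every solvable connected closed subgroup. -/
theorem le_of_solvable (B : Subgroup Γ) (hB : IsClosed (B : Set Γ)) (hBp : _root_.IsPreconnected (B : Set Γ))
    {n : ℕ} (hsol : derivedSeries B n = ⊥) (H : Subgroup Γ) (hH : IsClosed (H : Set Γ))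
    (hpow : ∀ x : Γ, ∃ m : ℕ, 0 < m ∧ x ^ m ∈ H) : B ≤ H := by
  classical
  have : PreconnectedSpace B := Subtype.preconnectedSpace hBp
  obtain ⟨P, Q, hQP, hup⟩ := (Φ.restrict B hB).exists_upper hsol
  let Ψ := (Φ.restrict B hB).conj P Q hQP
  let D : Subgroup B := H.subgroupOf B
  have hDc : IsClosed (D : Set B) := hH.preimage continuous_subtype_val
  have hDp : ∀ x : B, ∃ m : ℕ, 0 < m ∧ x ^ m ∈ D := fun x => hpow x
  obtain ⟨T, hT, hcov⟩ := Ψ.exists_toral_lift hup
  have hTD : T ≤ D := by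
    obtain ⟨P', Q', hQP', hd⟩ := hT.diag
    have : PreconnectedSpace T := Subtype.preconnectedSpace hT.preconnected
    have h := eq_top_of_diag ((Ψ.restrict T hT.closed).conj P' Q' hQP') (fun x => hd x x.2)
      (D.subgroupOf T) (hDc.preimage continuous_subtype_val) (fun x => hDp x)
    intro t ht
    have h' : (⟨t, ht⟩ : T) ∈ D.subgroupOf T := h ▸ Subgroup.mem_top _
    exact h'
  intro x hx
  obtain ⟨t, ht, he⟩ := hcov ⟨x, hx⟩
  have hu : t⁻¹ * ⟨x, hx⟩ ∈ Ψ.unipotent hup 1 := Ψ.mem_unipotent_of_diag (by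
    rw [map_mul, ← he, ← map_mul, inv_mul_cancel, map_one])
  obtain ⟨m, hm, hum⟩ := hDp (t⁻¹ * ⟨x, hx⟩)
  have huD := le_of_unipotent_pow Ψ hup D hDc hu hm hum
  have := D.mul_mem (hTD ht) huD
  rw [mul_inv_cancel_left] at this
  exact this

end Groth.Agent.DenseFG
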